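import Mathlib
import Cfsg.Prelude.Def_Solvable
import Cfsg.Agent.Cores.Basic

set_option autoImplicit false

/-! A subgroup with dihedral quotient by its `2`-core. -/

namespace Cfsg.Agent.FGS79

variable {G : Type*} [Group G] [Finite G]

theorem dihedral_setup (H : Subgroup G) (n : ℕ) (hn : 2 ≤ n)
    (hdih : Nonempty (↥H ⧸ Cfsg.pCore 2 ↥H ≃* DihedralGroup n))
    (P : Subgroup G) (hPH : P ≤ H) (hP : IsPGroup 2 P) (hPsyl : ¬ 2 ∣ P.relIndex H) :
    ∃ h ∈ H, ∃ Q : Subgroup G, Q = (Cfsg.pCore 2 ↥H).map H.subtype ∧ Q ≤ P ∧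
      (∀ g ∈ H, ∀ q ∈ Q, g * q * g⁻¹ ∈ Q) ∧ Nat.card P = 2 * Nat.card Q ∧
      P ⊓ P.map (MulAut.conj h).toMonoidHom = Q ∧
      P ⊔ P.map (MulAut.conj h).toMonoidHom = H ∧
      (∀ z ∈ H, z ∈ Subgroup.normalizer (P : Set G) → z ∈ P) := by
  have : Fact (Nat.Prime 2) := ⟨Nat.prime_two⟩
  have : NeZero n := ⟨by omega⟩
  obtain ⟨e⟩ := hdih
  set π : ↥H →* DihedralGroup n := e.toMonoidHom.comp (QuotientGroup.mk' (Cfsg.pCore 2 ↥H)) with hπ
  have hsurj : Function.Surjective π := e.surjective.comp (QuotientGroup.mk'_surjective _)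
  have hker : ∀ z, π z = 1 ↔ z ∈ Cfsg.pCore 2 ↥H := fun z => by simp [hπ]
  -- `n` is odd
  have hodd : Odd n := by
    by_contra hev
    rw [Nat.not_odd_iff_even] at hev
    obtain ⟨k, hk⟩ := hev
    have hc : ∀ d : DihedralGroup n, Commute (DihedralGroup.r ((k : ℕ) : ZMod n)) d := by
      have h2 : ((k : ℕ) : ZMod n) + (k : ℕ) = 0 := by rw [← Nat.cast_add, ← hk]; simp
      rintro (j | j)
      · show _ = _; simp [add_comm]
      · show _ = _
        rw [DihedralGroup.r_mul_sr, DihedralGroup.sr_mul_r, sub_eq_add_neg, ← eq_neg_of_add_eq_zero_left h2]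
    have hr : DihedralGroup.r ((k : ℕ) : ZMod n) ≠ 1 := by
      rw [DihedralGroup.one_def]
      intro h
      rw [DihedralGroup.r.injEq, ZMod.natCast_eq_zero_iff] at h
      have := Nat.le_of_dvd (by omega) h
      omega
    have hsq : DihedralGroup.r ((k : ℕ) : ZMod n) ^ 2 = 1 := by
      rw [pow_two, DihedralGroup.r_mul_r, ← Nat.cast_add, ← hk]; simp
    have hN : (Subgroup.zpowers (DihedralGroup.r ((k : ℕ) : ZMod n))).Normal := by
      refine ⟨fun a ha g => ?_⟩
      obtain ⟨l, rfl⟩ := ha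
      rw [((hc g).symm.zpow_right l).eq, mul_inv_cancel_right]
      exact ⟨l, rfl⟩
    have hpg : IsPGroup 2 (Subgroup.zpowers (DihedralGroup.r ((k : ℕ) : ZMod n))) :=
      IsPGroup.of_card (n := 1) (by rw [Nat.card_zpowers, orderOf_eq_prime hsq hr, pow_one])
    have h1 := Cores.le_pCore hN hpg
    rw [← Cores.map_pCore_equiv e, Cores.pCore_quotient_pCore_eq_bot, Subgroup.map_bot,
      Subgroup.zpowers_le, Subgroup.mem_bot] at h1
    exact hr h1
  set Q := (Cfsg.pCore 2 ↥H).map H.subtype with hQdef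
  have hidx : ¬ 2 ∣ (P.subgroupOf H).index := hPsyl
  set S : Sylow 2 ↥H := (hP.comap_of_injective H.subtype H.subtype_injective).toSylow hidx
  have hSP : (S : Subgroup ↥H) = P.subgroupOf H := rfl
  have hQ0 : Cfsg.pCore 2 ↥H ≤ P.subgroupOf H := hSP ▸ Cores.pCore_le_sylow S
  have hQP : Q ≤ P := by
    rintro _ ⟨z, hz, rfl⟩; exact hQ0 hz
  -- the image of `P` has order two
  set A := (P.subgroupOf H).map π with hA
  have hAidx : ¬ 2 ∣ A.index := fun h => hidx (h.trans (Subgroup.index_map_dvd _ hsurj))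
  have hcardA : Nat.card A = 2 := by
    obtain ⟨a, ha⟩ := IsPGroup.iff_card.1 ((hP.comap_of_injective H.subtype H.subtype_injective).map π)
    have h := A.card_mul_index
    have ha : Nat.card A = 2 ^ a := ha
    rw [ha, DihedralGroup.nat_card] at h
    rcases a with _ | _ | a
    · rw [pow_zero, one_mul] at h; exact absurd (h ▸ dvd_mul_right 2 n) hAidx
    · rw [ha]; rfl
    · exfalso
      rw [pow_succ, pow_succ] at h
      obtain ⟨m, hm⟩ := hodd
      have : 2 ∣ n := ⟨2 ^ a * A.index, Nat.eq_of_mul_eq_mul_left two_pos (by rw [← h]; ring)⟩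
      omega
  obtain ⟨i, hi⟩ : ∃ i, A = Subgroup.zpowers (DihedralGroup.sr i) := by
    obtain ⟨⟨d, hd⟩, hd2⟩ := exists_prime_orderOf_dvd_card' (G := A) 2 (hcardA ▸ dvd_rfl)
    rw [Subgroup.orderOf_mk] at hd2
    rcases d with j | j
    · exfalso
      rw [DihedralGroup.orderOf_r] at hd2
      obtain ⟨m, hm⟩ := hodd
      have h2 : 2 ∣ n := hd2 ▸ Nat.div_dvd_of_dvd (Nat.gcd_dvd_left n j.val)
      omega
    · refine ⟨j, (Subgroup.eq_of_le_of_card_ge (Subgroup.zpowers_le.2 hd) ?_).symm⟩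
      rw [hcardA, Nat.card_zpowers, hd2]
  have hcomap : A.comap π = P.subgroupOf H := by
    rw [hA, Subgroup.comap_map_eq]
    exact sup_eq_left.2 fun z hz => hQ0 ((hker z).1 hz)
  obtain ⟨h, hh⟩ := hsurj (DihedralGroup.r 1)
  have hcard : Nat.card P = 2 * Nat.card Q := by
    rw [hQdef, Subgroup.card_map_of_injective H.subtype_injective,
      ← Nat.card_congr (Subgroup.subgroupOfEquivOfLe hPH).toEquiv]
    have h1 := Subgroup.card_mul_index ((Cfsg.pCore 2 ↥H).subgroupOf (P.subgroupOf H))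
    rw [Nat.card_congr (Subgroup.subgroupOfEquivOfLe hQ0).toEquiv] at h1
    rw [← h1, mul_comm 2]
    congr 1
    show (Cfsg.pCore 2 ↥H).relIndex (P.subgroupOf H) = 2
    have h2 : π.ker = Cfsg.pCore 2 ↥H := Subgroup.ext fun z => (MonoidHom.mem_ker).trans (hker z)
    rw [← h2, Subgroup.relIndex_ker]
    convert hcardA using 3
  have hconj : ∀ z : ↥H, (z : G) ∈ P.map (MulAut.conj (h : G)).toMonoidHom ↔ h⁻¹ * z * h ∈ P.subgroupOf H := by
    intro z
    rw [Subgroup.mem_map_equiv, Subgroup.mem_subgroupOf]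
    simp
  have hPhH : P.map (MulAut.conj (h : G)).toMonoidHom ≤ H := by
    rintro _ ⟨z, hz, rfl⟩
    simpa using mul_mem (mul_mem h.2 (hPH hz)) (inv_mem h.2)
  have hAmem : ∀ z : ↥H, z ∈ P.subgroupOf H ↔ π z = 1 ∨ π z = DihedralGroup.sr i := by
    intro z
    rw [← hcomap, Subgroup.mem_comap, hi]
    constructor
    · intro hz
      obtain ⟨l, hl⟩ := hz
      rcases Int.even_or_odd l with ⟨m, rfl⟩ | ⟨m, rfl⟩
      · left; rw [← hl]; show _ ^ (m + m) = _
        rw [← two_mul, zpow_mul, zpow_two, DihedralGroup.sr_mul_self, one_zpow]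
      · right; rw [← hl]; show _ ^ (2 * m + 1) = _
        rw [zpow_add, zpow_one, zpow_mul, zpow_two, DihedralGroup.sr_mul_self, one_zpow, one_mul]
    · rintro (hz | hz) <;> rw [hz]
      · exact one_mem _
      · exact Subgroup.mem_zpowers _
  have h2n : (2 : ZMod n) ≠ 0 := by
    intro h2
    have h3 := (ZMod.natCast_eq_zero_iff 2 n).1 (by exact_mod_cast h2)
    have := Nat.le_of_dvd two_pos h3
    obtain ⟨m, hm⟩ := hodd
    omega
  refine ⟨h, h.2, Q, rfl, hQP, ?_, hcard, ?_, ?_, ?_⟩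
  · rintro g hg _ ⟨q, hq, rfl⟩
    exact ⟨⟨g, hg⟩ * q * ⟨g, hg⟩⁻¹, Subgroup.Normal.conj_mem inferInstance q hq _, rfl⟩
  · refine le_antisymm ?_ ?_
    · rintro z ⟨hz, hz'⟩
      refine ⟨⟨z, hPH hz⟩, (hker _).1 ?_, rfl⟩
      have h1 := (hAmem ⟨z, hPH hz⟩).1 hz
      have h2 := (hAmem _).1 ((hconj ⟨z, hPH hz⟩).1 hz')
      rcases h1 with h1 | h1
      · exact h1
      · exfalso
        rw [map_mul, map_mul, map_inv, hh, h1, DihedralGroup.inv_r] at h2
        rcases h2 with h2 | h2
        · rw [DihedralGroup.one_def] at h2; cases h2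
        · simp only [DihedralGroup.r_mul_sr, DihedralGroup.sr_mul_r, DihedralGroup.sr.injEq] at h2
          exact h2n (by linear_combination h2)
    · refine le_inf hQP ?_
      rintro _ ⟨q, hq, rfl⟩
      rw [Subgroup.coe_subtype, hconj]
      exact hQ0 (by simpa [mul_assoc] using Subgroup.Normal.conj_mem inferInstance q hq h⁻¹)
  · refine le_antisymm (sup_le hPH hPhH) fun z hz => ?_
    set K := P ⊔ P.map (MulAut.conj (h : G)).toMonoidHom
    -- enough to show that the image is everything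
    have hk : ∀ d : DihedralGroup n, d ∈ (K.subgroupOf H).map π := by
      have hs : DihedralGroup.sr i ∈ (K.subgroupOf H).map π := by
        obtain ⟨s, hs⟩ := hsurj (DihedralGroup.sr i)
        exact ⟨s, Subgroup.mem_sup_left (T := P.map _) ((hAmem s).2 (Or.inr hs)), hs⟩
      obtain ⟨s, hsi⟩ := hsurj (DihedralGroup.sr i)
      have hs2 : π (h * s * h⁻¹) ∈ (K.subgroupOf H).map π := by
        refine ⟨h * s * h⁻¹, show ((h * s * h⁻¹ : ↥H) : G) ∈ K from
          Subgroup.mem_sup_right (S := P) ((hconj (h * s * h⁻¹)).2 ?_), rfl⟩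
        have : h⁻¹ * (h * s * h⁻¹) * h = s := by group
        rw [this]; exact (hAmem s).2 (Or.inr hsi)
      rw [map_mul, map_mul, map_inv, hh, hsi, DihedralGroup.inv_r, DihedralGroup.r_mul_sr,
        DihedralGroup.sr_mul_r] at hs2
      have hr : DihedralGroup.r (2 : ZMod n) ∈ (K.subgroupOf H).map π := by
        have := mul_mem hs2 hs
        rw [DihedralGroup.sr_mul_sr] at this
        convert this using 2
        ring
      obtain ⟨m, hm⟩ := hodd
      have hr1 : DihedralGroup.r (1 : ZMod n) ∈ (K.subgroupOf H).map π := by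
        have := pow_mem hr (m + 1)
        rw [DihedralGroup.r_pow] at this
        convert this using 2
        have : ((2 * m + 1 : ℕ) : ZMod n) = 0 := by rw [← hm]; simp
        push_cast at this ⊢
        linear_combination -this
      have hrj : ∀ j : ZMod n, DihedralGroup.r j ∈ (K.subgroupOf H).map π := fun j => by
        have := pow_mem hr1 j.val
        rwa [DihedralGroup.r_one_pow, ZMod.natCast_zmod_val] at this
      rintro (j | j)
      · exact hrj j
      · have := mul_mem hs (hrj (j - i))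
        rwa [DihedralGroup.sr_mul_r, add_sub_cancel] at this
    obtain ⟨w, hw, hwz⟩ := hk (π ⟨z, hz⟩)
    have : w⁻¹ * ⟨z, hz⟩ ∈ K.subgroupOf H := Subgroup.mem_sup_left (T := P.map _)
      (hQ0 ((hker _).1 (by rw [map_mul, map_inv, hwz, inv_mul_cancel])))
    have h2 := mul_mem hw this
    rwa [mul_inv_cancel_left] at h2
  · intro z hz hzn
    obtain ⟨s, hs⟩ := hsurj (DihedralGroup.sr i)
    have hzs : (⟨z, hz⟩ : ↥H) * s * ⟨z, hz⟩⁻¹ ∈ P.subgroupOf H :=
      (Subgroup.mem_normalizer_iff.1 hzn _).1 ((hAmem s).2 (Or.inr hs))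
    have h2 := (hAmem _).1 hzs
    rw [map_mul, map_mul, map_inv, hs] at h2
    refine (hAmem ⟨z, hz⟩).2 ?_
    obtain ⟨m, hm⟩ := hodd
    have hnm : ((2 * m + 1 : ℕ) : ZMod n) = 0 := by rw [← hm]; simp
    push_cast at hnm
    rcases hd : π ⟨z, hz⟩ with j | j <;> rw [hd] at h2
    · rcases h2 with h2 | h2
      · rw [DihedralGroup.one_def] at h2; cases h2
      · simp only [DihedralGroup.inv_r, DihedralGroup.r_mul_sr, DihedralGroup.sr_mul_r,
          DihedralGroup.sr.injEq] at h2
        left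
        rw [DihedralGroup.one_def, DihedralGroup.r.injEq]
        linear_combination j * hnm + m * h2
    · rcases h2 with h2 | h2
      · rw [DihedralGroup.one_def] at h2; cases h2
      · simp only [DihedralGroup.inv_sr, DihedralGroup.sr_mul_sr, DihedralGroup.r_mul_sr,
          DihedralGroup.sr.injEq] at h2
        right
        rw [DihedralGroup.sr.injEq]
        linear_combination (j - i) * hnm - m * h2

end Cfsg.Agent.FGS79
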