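import Mathlib
import Cfsg.Prelude.Def_CaseTheorems
import Cfsg.Agent.Cores.Basic
import Cfsg.Agent.Transfer.Frobenius
import Cfsg.Agent.MaxSub.Dickson.Small

set_option autoImplicit false

/-! Recognition of `V₄`, `S₄` and `S₄ × C₂` modulo the odd core. -/

namespace Cfsg.Agent.FGS79

variable {X : Type*} [Group X]

theorem perm_three_generate (u v s : Equiv.Perm (Fin 3))
    (hu : u 0 = 0) (hu' : u 1 = 2) (hv : v 1 = 1) (hv' : v 0 = 2) :
    s = 1 ∨ s = u ∨ s = v ∨ s = u * v ∨ s = v * u ∨ s = u * v * u := by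
  revert u v s; decide

theorem klein_pow_two : ∀ z : Multiplicative (ZMod 2) × Multiplicative (ZMod 2), z ^ 2 = 1 := by
  decide

/-- An invariant triple gives a homomorphism to `Perm (Fin 3)`. -/
theorem orbit_hom (e : Fin 3 → X) (he : Function.Injective e)
    (hinv : ∀ g : X, ∀ i, ∃ j, g * e i * g⁻¹ = e j) :
    ∃ φ : X →* Equiv.Perm (Fin 3), ∀ g i, g * e i * g⁻¹ = e (φ g i) := by
  choose f hf using hinv
  letI : MulAction X (Fin 3) :=
    { smul := f
      one_smul := fun i => he (by show e (f 1 i) = e i; rw [← hf]; group)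
      mul_smul := fun g h i => he (by
        show e (f (g * h) i) = e (f g (f h i))
        rw [← hf, ← hf, ← hf]; group) }
  exact ⟨MulAction.toPermHom X (Fin 3), hf⟩

theorem orbit_hom_surjective (φ : X →* Equiv.Perm (Fin 3)) {u v : X}
    (hu : φ u 0 = 0) (hu' : φ u 1 = 2) (hv : φ v 1 = 1) (hv' : φ v 0 = 2) :
    Function.Surjective φ := by
  intro s
  rcases perm_three_generate (φ u) (φ v) s hu hu' hv hv' with h | h | h | h | h | h
  · exact ⟨1, by rw [map_one, h]⟩
  · exact ⟨u, h.symm⟩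
  · exact ⟨v, h.symm⟩
  · exact ⟨u * v, by rw [map_mul, h]⟩
  · exact ⟨v * u, by rw [map_mul, h]⟩
  · exact ⟨u * v * u, by rw [map_mul, map_mul, h]⟩

/-- Recognition of `S₄` as a quotient. -/
theorem equiv_symFour [Finite X] (φ : X →* Equiv.Perm (Fin 3)) (hφ : Function.Surjective φ)
    (N : Subgroup X) [N.Normal] (hN : N ≤ φ.ker) (hidx : N.index = 24)
    (hfix : ∀ q ∈ φ.ker, ∀ g : X, φ g ^ 3 = 1 → φ g ≠ 1 → g * q * g⁻¹ * q⁻¹ ∈ N → q ∈ N) :
    Nonempty (X ⧸ N ≃* Equiv.Perm (Fin 4)) := by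
  refine MaxSub.Dickson.equiv_perm_four (G := X ⧸ N) hidx fun x hx => ?_
  obtain ⟨g, rfl⟩ := QuotientGroup.mk_surjective x
  have hsurjmap : (φ.ker.map (QuotientGroup.mk' N)).index = 6 := by
    rw [Subgroup.index_map_eq _ (QuotientGroup.mk'_surjective N) (by simpa using hN),
      Subgroup.index_ker, MonoidHom.range_eq_top.2 hφ, Subgroup.card_top, Nat.card_perm]
    simp [Nat.factorial]
  have hcard : Nat.card (φ.ker.map (QuotientGroup.mk' N)) = 4 := by
    have h := (φ.ker.map (QuotientGroup.mk' N)).card_mul_index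
    rw [hsurjmap, show Nat.card (X ⧸ N) = 24 from hidx] at h
    omega
  have h3 : orderOf ((g : X ⧸ N) ^ 2) = 3 := by
    rw [orderOf_pow, hx]; rfl
  have hperm : ∀ s : Equiv.Perm (Fin 3), s ^ 2 ≠ 1 → s ^ 3 = 1 ∧ (s ^ 2) ^ 3 = 1 := by decide
  have hg2 : φ g ^ 2 ≠ 1 := by
    intro h
    have hmem : (g : X ⧸ N) ^ 2 ∈ φ.ker.map (QuotientGroup.mk' N) :=
      ⟨g ^ 2, by simp [MonoidHom.mem_ker, h], rfl⟩
    have := Subgroup.orderOf_dvd_natCard _ hmem
    rw [hcard, h3] at this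
    omega
  obtain ⟨hg3, hg23⟩ := hperm _ hg2
  have hq := hfix (g ^ 3) (by simp [MonoidHom.mem_ker, hg3]) (g ^ 2) (by rw [map_pow]; exact hg23)
    (by rw [map_pow]; exact hg2) (by
      rw [show g ^ 2 * g ^ 3 * (g ^ 2)⁻¹ * (g ^ 3)⁻¹ = 1 by group]; exact one_mem _)
  have h4 : (g : X ⧸ N) ^ 3 = 1 := (QuotientGroup.eq_one_iff _).2 hq
  have := orderOf_dvd_of_pow_eq_one h4
  rw [hx] at this
  omega

/-- The centralizer of `Q` when it has index `6`. -/
theorem centralizer_decomp [Finite X] {P Q : Subgroup X} [Q.Normal] (hQ : IsPGroup 2 Q)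
    (hcomm : ∀ a ∈ Q, ∀ b ∈ Q, Commute a b) (hcard : Nat.card P = 2 * Nat.card Q)
    (hP : ¬ 2 ∣ P.index) (C : Subgroup X) (hC : ∀ g, g ∈ C ↔ ∀ q ∈ Q, Commute g q)
    (hidx : C.index = 6) :
    (∀ c ∈ C, ∃ q ∈ Q, ∃ m ∈ Cfsg.oddCore X, c = q * m) ∧ Cfsg.oddCore X ≤ C ∧
      (Cfsg.oddCore X).index = 6 * Nat.card Q := by
  have : Fact (Nat.Prime 2) := ⟨Nat.prime_two⟩
  have hCn : C.Normal := by
    refine ⟨fun c hc g => (hC _).2 fun q hq => ?_⟩
    have h := (hC c).1 hc _ ((inferInstance : Q.Normal).conj_mem q hq g⁻¹)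
    rw [inv_inv] at h
    have := h.map (MulAut.conj g).toMonoidHom
    simpa [mul_assoc] using this
  have hQC : Q ≤ C := fun a ha => (hC a).2 fun q hq => hcomm a ha q hq
  have hM : Cfsg.oddCore X ≤ C := fun m hm => (hC m).2 fun q hq => by
    refine Subgroup.commute_of_normal_of_disjoint _ _ inferInstance inferInstance ?_ m q hm hq
    refine Subgroup.disjoint_of_coprime_natCard ?_
    obtain ⟨k, hk⟩ := IsPGroup.iff_card.1 hQ
    rw [hk]
    exact Nat.Coprime.pow_right _ Cores.pPrimeCore_coprime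
  have h1 := P.card_mul_index
  have h2 := C.card_mul_index
  have h3 := (Q.subgroupOf C).card_mul_index
  rw [Nat.card_congr (Subgroup.subgroupOfEquivOfLe hQC).toEquiv] at h3
  rw [hidx, ← h3] at h2
  rw [hcard, ← h2, mul_assoc 2, mul_left_comm 2, mul_assoc] at h1
  have hQpos : 0 < Nat.card Q := Nat.card_pos
  have h4 : P.index = 3 * (Q.subgroupOf C).index := by
    have := Nat.eq_of_mul_eq_mul_left hQpos h1
    omega
  have hcop : (Nat.card (Q.subgroupOf C)).Coprime (Q.subgroupOf C).index := by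
    rw [Nat.card_congr (Subgroup.subgroupOfEquivOfLe hQC).toEquiv]
    obtain ⟨k, hk⟩ := IsPGroup.iff_card.1 hQ
    rw [hk]
    refine Nat.Coprime.pow_left _ ((Nat.prime_two.coprime_iff_not_dvd).2 fun h => hP ?_)
    rw [h4]; exact h.mul_left 3
  obtain ⟨K, hK⟩ := Subgroup.exists_right_complement'_of_coprime hcop
  have hcent : ∀ a ∈ Q.subgroupOf C, ∀ b : C, a * b = b * a := fun a ha b =>
    Subtype.ext ((hC b).1 b.2 a ha).eq.symm
  have hdec : ∀ c : C, ∃ a ∈ Q.subgroupOf C, ∃ b ∈ K, c = a * b := fun c => by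
    obtain ⟨⟨a, b⟩, hab⟩ := hK.2 c
    exact ⟨a, a.2, b, b.2, hab.symm⟩
  have hKn : K.Normal := by
    refine ⟨fun k hk g => ?_⟩
    obtain ⟨a, ha, b, hb, rfl⟩ := hdec g
    have : a * b * k * (a * b)⁻¹ = b * k * b⁻¹ := by
      have h := hcent a ha (b * k * b⁻¹)
      calc a * b * k * (a * b)⁻¹ = a * (b * k * b⁻¹) * a⁻¹ := by group
        _ = b * k * b⁻¹ := by rw [h, mul_inv_cancel_right]
    rw [this]
    exact mul_mem (mul_mem hb hk) (inv_mem hb)
  have hKcard : Nat.card K = (Q.subgroupOf C).index := hK.symm.index_eq_card.symm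
  have hKcop : (Nat.card K).Coprime 2 := by
    rw [hKcard, Nat.coprime_comm]
    exact (Nat.prime_two.coprime_iff_not_dvd).2 fun h => hP (h4 ▸ h.mul_left 3)
  have hKle : K.map C.subtype ≤ Cfsg.oddCore X :=
    (Subgroup.map_mono (Cores.le_pPrimeCore hKn hKcop)).trans Cores.map_subtype_pPrimeCore_le
  have heq : K.map C.subtype = Cfsg.oddCore X := by
    refine Subgroup.eq_of_le_of_card_ge hKle ?_
    rw [Subgroup.card_map_of_injective C.subtype_injective, hKcard]
    refine Nat.le_of_dvd (Nat.pos_of_ne_zero Subgroup.index_ne_zero_of_finite) ?_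
    have hd := Subgroup.card_dvd_of_le hM
    rw [← h3] at hd
    obtain ⟨k, hk⟩ := IsPGroup.iff_card.1 hQ
    rw [hk] at hd
    exact (Nat.Coprime.pow_right _ Cores.pPrimeCore_coprime).dvd_of_dvd_mul_left hd
  refine ⟨fun c hc => ?_, hM, ?_⟩
  · obtain ⟨a, ha, b, hb, hab⟩ := hdec ⟨c, hc⟩
    exact ⟨a, ha, b, hKle ⟨b, hb, rfl⟩, congrArg Subtype.val hab⟩
  · have h5 := (Cfsg.oddCore X).card_mul_index
    rw [← heq, Subgroup.card_map_of_injective C.subtype_injective, hKcard, heq] at h5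
    have h6 : 0 < (Q.subgroupOf C).index := Nat.pos_of_ne_zero Subgroup.index_ne_zero_of_finite
    refine Nat.eq_of_mul_eq_mul_left h6 ?_
    rw [h5, ← h2]; ring

/-- A self-normalizing Klein four Sylow subgroup. -/
theorem equiv_klein [Finite X] {P : Subgroup X} (hcard : Nat.card P = 4) (hsq : ∀ z ∈ P, z * z = 1)
    (hP : ¬ 2 ∣ P.index) (hN : Subgroup.normalizer (P : Set X) ≤ P) :
    Nonempty (X ⧸ Cfsg.oddCore X ≃* Multiplicative (ZMod 2) × Multiplicative (ZMod 2)) := by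
  have : Fact (Nat.Prime 2) := ⟨Nat.prime_two⟩
  set S : Sylow 2 X := (IsPGroup.of_card (hcard.trans (by rfl : (4 : ℕ) = 2 ^ 2))).toSylow hP
  have hSP : (S : Subgroup X) = P := rfl
  have hcomm : ∀ a ∈ P, ∀ b ∈ P, a * b = b * a := fun a ha b hb => by
    have hi : ∀ z ∈ P, z⁻¹ = z := fun z hz => inv_eq_of_mul_eq_one_right (hsq z hz)
    calc a * b = (a * b)⁻¹ := (hi _ (mul_mem ha hb)).symm
      _ = b * a := by rw [mul_inv_rev, hi a ha, hi b hb]
  have hNC : Subgroup.normalizer ((S : Subgroup X) : Set X) ≤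
      Subgroup.centralizer ((S : Subgroup X) : Set X) := by
    rw [hSP]
    intro z hz
    exact Subgroup.mem_centralizer_iff.2 fun w hw => hcomm w hw z (hN hz)
  set f := MonoidHom.transferSylow S hNC
  have hK : f.ker.IsComplement' (S : Subgroup X) := MonoidHom.ker_transferSylow_isComplement' S hNC
  have hidxS : f.ker.index = 4 := by rw [hK.symm.index_eq_card, hSP, hcard]
  have hkodd : (Nat.card f.ker).Coprime 2 := by
    rw [← hK.index_eq_card, Nat.coprime_comm]
    exact (Nat.prime_two.coprime_iff_not_dvd).2 hP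
  have hle : f.ker ≤ Cfsg.oddCore X := Cores.le_pPrimeCore inferInstance hkodd
  have hOP : Cfsg.oddCore X ⊓ P = ⊥ := by
    refine (Subgroup.disjoint_of_coprime_natCard ?_).eq_bot
    rw [hcard, show (4 : ℕ) = 2 ^ 2 from rfl]
    exact Nat.Coprime.pow_right _ Cores.pPrimeCore_coprime
  set ψ := (QuotientGroup.mk' (Cfsg.oddCore X)).comp P.subtype
  have hψ : Function.Bijective ψ := by
    have hinj : Function.Injective ψ := by
      refine (injective_iff_map_eq_one _).2 fun z hz => Subtype.ext ?_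
      have : (z : X) ∈ Cfsg.oddCore X ⊓ P := ⟨(QuotientGroup.eq_one_iff _).1 hz, z.2⟩
      rwa [hOP, Subgroup.mem_bot] at this
    refine hinj.bijective_of_nat_card_le ?_
    show (Cfsg.oddCore X).index ≤ Nat.card P
    rw [hcard, ← hidxS]
    exact Nat.le_of_dvd (Nat.pos_of_ne_zero Subgroup.index_ne_zero_of_finite)
      (Subgroup.index_dvd_of_le hle)
  have : Nontrivial P := Finite.one_lt_card_iff_nontrivial.1 (by omega)
  have : IsKleinFour P := ⟨hcard, by
    refine (Monoid.exponent_eq_prime_iff Nat.prime_two).2 ?_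
    · intro z hz
      refine orderOf_eq_prime ?_ hz
      rw [pow_two]; exact Subtype.ext (hsq _ z.2)⟩
  have : IsKleinFour (Multiplicative (ZMod 2) × Multiplicative (ZMod 2)) := ⟨by simp, by
    have : Nontrivial (Multiplicative (ZMod 2) × Multiplicative (ZMod 2)) := inferInstance
    refine (Monoid.exponent_eq_prime_iff Nat.prime_two).2 fun z hz => orderOf_eq_prime ?_ hz
    exact klein_pow_two z⟩
  exact ⟨(MulEquiv.ofBijective ψ hψ).symm.trans IsKleinFour.nonempty_mulEquiv.some⟩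

end Cfsg.Agent.FGS79
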