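import Mathlib
import Cfsg.Agent.FGS79.Glauberman
import Cfsg.Agent.FGS79.SymFour

set_option autoImplicit false

/-! Windows of involutions: exclusion of length six, and the triples for lengths three and four. -/

namespace Cfsg.Agent.FGS79

variable {G : Type*} [Group G]

namespace IsWindow

variable {x : ℤ → G} {t : ℕ} {σ : MulAut G} (W : IsWindow x 2 t σ) (ht : 1 ≤ t)
include W ht

theorem mul_self (i : ℤ) : x i * x i = 1 := by
  rw [← pow_two]; exact W.pow_self ht i

theorem inv_eq (i : ℤ) : (x i)⁻¹ = x i := inv_eq_of_mul_eq_one_right (W.mul_self ht i)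

theorem zpow_cases (i e : ℤ) : x i ^ e = 1 ∨ x i ^ e = x i := by
  rcases Int.even_or_odd e with ⟨m, rfl⟩ | ⟨m, rfl⟩
  · left; rw [← two_mul, zpow_mul, zpow_two, W.mul_self ht, one_zpow]
  · right; rw [zpow_add, zpow_one, zpow_mul, zpow_two, W.mul_self ht, one_zpow, one_mul]

theorem ne_one (i : ℤ) : x i ≠ 1 := fun h => by
  have := W.orderOf_eq ht i
  rw [h, orderOf_one] at this
  omega

theorem mem_one {a : ℤ} {z : G} (hz : z ∈ win x a (a + 1)) : z = 1 ∨ z = x a := by
  rw [win_succ_right x le_rfl, win_eq_bot x le_rfl, bot_sup_eq] at hz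
  obtain ⟨e, rfl⟩ := hz
  exact W.zpow_cases ht a e

/-- A window of commuting involutions has exponent two. -/
theorem sq_win {a b : ℤ} (hab : ∀ i j, a ≤ i → i < b → a ≤ j → j < b → Commute (x i) (x j))
    {z : G} (hz : z ∈ win x a b) : z * z = 1 := by
  suffices z * z = 1 ∧ ∀ j, a ≤ j → j < b → Commute z (x j) from this.1
  induction hz using Subgroup.closure_induction with
  | mem w hw =>
    obtain ⟨i, ⟨h1, h2⟩, rfl⟩ := hw
    exact ⟨W.mul_self ht i, fun j h3 h4 => hab i j h1 h2 h3 h4⟩
  | one => exact ⟨one_mul 1, fun j _ _ => Commute.one_left _⟩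
  | mul u v hu hv ihu ihv =>
    refine ⟨?_, fun j h1 h2 => (ihu.2 j h1 h2).mul_left (ihv.2 j h1 h2)⟩
    have hc : Commute u v := commute_win x ihu.2 hv
    calc u * v * (u * v) = u * (v * u) * v := by group
      _ = u * (u * v) * v := by rw [hc.eq]
      _ = u * u * (v * v) := by group
      _ = 1 := by rw [ihu.1, ihv.1, one_mul]
  | inv u _ ih => exact ⟨by rw [← mul_inv_rev, ih.1, inv_one], fun j h1 h2 => (ih.2 j h1 h2).inv_left⟩

variable [Finite G]

/-- Elements of a window of three pairwise commuting involutions. -/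
theorem mem_three {a : ℤ} (h3 : 3 ≤ t) {z : G} (hz : z ∈ win x a (a + 3)) :
    ∃ e f g : G, (e = 1 ∨ e = x a) ∧ (f = 1 ∨ f = x (a + 1)) ∧ (g = 1 ∨ g = x (a + 2)) ∧
      z = e * f * g := by
  rw [show a + 3 = a + 2 + 1 by ring] at hz
  obtain ⟨v, hv, k, rfl⟩ := W.split_right (by omega) (by omega) hz
  rw [show a + 2 = a + 1 + 1 by ring] at hv
  obtain ⟨v', hv', l, rfl⟩ := W.split_right (by omega) (by omega) hv
  exact ⟨v', x (a + 1) ^ l, x (a + 2) ^ k, W.mem_one ht hv', W.zpow_cases ht _ l,
    W.zpow_cases ht _ k, rfl⟩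

/-- Elements of a window of length two. -/
theorem mem_two {a : ℤ} (h2 : 2 ≤ t) {z : G} (hz : z ∈ win x a (a + 2)) :
    z = 1 ∨ z = x a ∨ z = x (a + 1) ∨ z = x a * x (a + 1) := by
  rw [show a + 2 = a + 1 + 1 by ring] at hz
  obtain ⟨v, hv, e, rfl⟩ := W.split_right (by omega) (by omega) hz
  rcases W.mem_one ht hv with rfl | rfl <;> rcases W.zpow_cases ht (a + 1) e with h | h <;>
    rw [h] <;> simp

end IsWindow

/-- Invariance of a set under conjugation by a subgroup generated by involutions. -/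
theorem conj_mem_of_win {x : ℤ → G} {a b : ℤ} {S : Set G} (hinv : ∀ i, (x i)⁻¹ = x i)
    (h : ∀ i, a ≤ i → i < b → ∀ s ∈ S, x i * s * (x i)⁻¹ ∈ S) {g : G} (hg : g ∈ win x a b) :
    ∀ s ∈ S, g * s * g⁻¹ ∈ S := by
  suffices (∀ s ∈ S, g * s * g⁻¹ ∈ S) ∧ ∀ s ∈ S, g⁻¹ * s * g⁻¹⁻¹ ∈ S from this.1
  induction hg using Subgroup.closure_induction with
  | mem w hw =>
    obtain ⟨i, ⟨h1, h2⟩, rfl⟩ := hw
    rw [hinv]
    have h3 : ∀ s ∈ S, x i * s * x i ∈ S := fun s hs => by simpa [hinv] using h i h1 h2 s hs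
    simp only [hinv]
    exact ⟨h3, h3⟩
  | one => simp
  | mul u v _ _ ihu ihv =>
    constructor
    · intro s hs
      have := ihu.1 _ (ihv.1 s hs)
      simpa [mul_assoc] using this
    · intro s hs
      have := ihv.2 _ (ihu.2 s hs)
      simpa [mul_assoc] using this
  | inv u _ ih => exact ⟨ih.2, fun s hs => by simpa using ih.1 s hs⟩

/-- Length six cannot occur. -/
theorem no_six [Finite G] {x : ℤ → G} {σ : MulAut G} (W : IsWindow x 2 6 σ) {h y : G}
    (hh : h ∈ win x 0 7) (hσ : ∀ z, σ z = h * (y * z * y⁻¹) * h⁻¹)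
    (hyP : ∀ z ∈ win x 0 6, y * z * y⁻¹ ∈ win x 0 6)
    (hy2 : ∃ p ∈ win x 0 6, ∃ c, (∀ z ∈ win x 0 6, Commute c z) ∧ y ^ 2 = p * c)
    (hc : ∀ i j : ℤ, i ≤ j → j - i < (4 : ℕ) → Commute (x i) (x j))
    (hn : ∀ i : ℤ, ¬ Commute (x i) (x (i + (4 : ℕ)))) : False := by
  have ht : 1 ≤ 6 := by norm_num
  have hcd : ∀ i j : ℤ, i - j < 4 → j - i < 4 → Commute (x i) (x j) := fun i j h1 h2 =>
    IsWindow.commute_of_dist hc h1 h2
  have h0 : x 0 * x 4 * (x 0)⁻¹ * (x 4)⁻¹ = x 2 := by
    obtain ⟨hA, hB⟩ := W.commutator_mem (k := 4) (by norm_num) (by norm_num) hc hn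
    norm_num at hA hB
    obtain ⟨e, v, hv, hev⟩ := W.split_left (a := 2) (b := 4) (by norm_num) (by norm_num) hA
    norm_num at hv
    have hv1 : v = 1 := by
      rw [← Subgroup.mem_bot, ← W.inf_consecutive 2 (a := 1) (b := 3) (c := 4) (by norm_num)
        (by norm_num) (by norm_num)]
      refine Subgroup.mem_inf.2 ⟨?_, hv⟩
      have : v = (x 2 ^ e)⁻¹ * (x 0 * x 4 * (x 0)⁻¹ * (x 4)⁻¹) := by rw [hev, inv_mul_cancel_left]
      rw [this]
      exact mul_mem (inv_mem (zpow_mem (mem_win x (by norm_num) (by norm_num)) _)) hB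
    rw [hv1, mul_one] at hev
    rcases W.zpow_cases ht 2 e with h1 | h1
    · exfalso
      refine hn 0 ?_
      rw [h1, mul_inv_eq_one, mul_inv_eq_iff_eq_mul] at hev
      show x 0 * x (0 + 4) = x (0 + 4) * x 0
      rwa [zero_add]
    · rw [hev, h1]
  have hcomm : ∀ i : ℤ, x i * x (i + 4) * x i * x (i + 4) = x (i + 2) := by
    intro i
    have := congrArg (σ ^ i : MulAut G) h0
    simp only [map_mul, zpow_apply x W.shift, zero_add, W.inv_eq ht] at this
    rwa [add_comm i 4, add_comm i 2]
  have h3H : ∀ g ∈ win x 0 7, Commute (x 3) g := fun g hg =>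
    commute_win x (fun i h1 h2 => hcd 3 i (by omega) (by omega)) hg
  have h2P : ∀ g ∈ win x 0 6, Commute (x 2) g := fun g hg =>
    commute_win x (fun i h1 h2 => hcd 2 i (by omega) (by omega)) hg
  have hm : ∀ i : ℤ, 0 ≤ i → i < 6 → x i ∈ win x 0 6 := fun i => mem_win x
  have hback : ∀ i : ℤ, y * x i * y⁻¹ = h⁻¹ * x (i + 1) * h := fun i => by
    rw [← W.shift, hσ]; group
  have hy23 : y * x 2 * y⁻¹ = x 3 := by
    rw [hback]
    norm_num
    rw [mul_assoc, (h3H h hh).eq, inv_mul_cancel_left]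
  obtain ⟨p, hp, c, hcc, hpc⟩ := hy2
  have hsq : ∀ z ∈ win x 0 6, y * (y * z * y⁻¹) * y⁻¹ = p * z * p⁻¹ := by
    intro z hz
    calc y * (y * z * y⁻¹) * y⁻¹ = y ^ 2 * z * (y ^ 2)⁻¹ := by rw [pow_two]; group
      _ = p * (c * z) * c⁻¹ * p⁻¹ := by rw [hpc]; group
      _ = p * z * p⁻¹ := by rw [(hcc z hz).eq]; group
  have hy32 : y * x 3 * y⁻¹ = x 2 := by
    rw [← hy23, hsq _ (hm 2 (by norm_num) (by norm_num)), ← (h2P p hp).eq, mul_inv_cancel_right]
  have h24 : h * x 2 * h⁻¹ = x 4 := by
    rw [← hy32, hback]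
    norm_num
    group
  have h6 : x 6 * x 2 * x 6 = x 2 * x 4 := by
    have := hcomm 2
    norm_num at this
    calc x 6 * x 2 * x 6 = (x 2 * x 2) * (x 6 * x 2 * x 6) := by rw [W.mul_self ht, one_mul]
      _ = x 2 * (x 2 * x 6 * x 2 * x 6) := by group
      _ = x 2 * x 4 := by rw [this]
  have h04 : x 0 * x 4 * x 0 = x 2 * x 4 := by
    have := hcomm 0
    norm_num at this
    calc x 0 * x 4 * x 0 = (x 0 * x 4 * x 0 * x 4) * x 4 := by
          rw [mul_assoc _ (x 4) (x 4), W.mul_self ht, mul_one]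
      _ = x 2 * x 4 := by rw [this]
  -- the orbit of `x 2`
  set a := h⁻¹ * x 2 * h with ha
  have haO : a ∈ ({x 2, x 4, x 2 * x 4} : Set G) := by
    have := conj_mem_of_win (x := x) (a := 0) (b := 7) (S := {x 2, x 4, x 2 * x 4}) (W.inv_eq ht) ?_
      (inv_mem hh) (x 2) (by simp)
    · rwa [inv_inv] at this
    intro i hi0 hi7 s hs
    simp only [Set.mem_insert_iff, Set.mem_singleton_iff] at hs ⊢
    rw [W.inv_eq ht]
    have hfix : ∀ l : ℤ, i - l < 4 → l - i < 4 → x i * x l * x i = x l := fun l h1 h2 => by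
      rw [(hcd i l h1 h2).eq, mul_assoc, W.mul_self ht, mul_one]
    have hprod : ∀ u v : G, x i * (u * v) * x i = (x i * u * x i) * (x i * v * x i) := fun u v => by
      calc x i * (u * v) * x i = x i * u * 1 * v * x i := by group
        _ = x i * u * (x i * x i) * v * x i := by rw [W.mul_self ht]
        _ = _ := by group
    rcases (show i = 0 ∨ i = 6 ∨ (1 ≤ i ∧ i ≤ 5) by omega) with rfl | rfl | ⟨h1, h5⟩
    · rcases hs with rfl | rfl | rfl
      · left; exact hfix 2 (by norm_num) (by norm_num)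
      · right; right; exact h04
      · right; left
        rw [hprod, hfix 2 (by norm_num) (by norm_num), h04, ← mul_assoc, W.mul_self ht, one_mul]
    · rcases hs with rfl | rfl | rfl
      · right; right; exact h6
      · right; left; exact hfix 4 (by norm_num) (by norm_num)
      · left
        rw [hprod, hfix 4 (by norm_num) (by norm_num), h6, mul_assoc, W.mul_self ht, mul_one]
    · rcases hs with rfl | rfl | rfl
      · left; exact hfix 2 (by omega) (by omega)
      · right; left; exact hfix 4 (by omega) (by omega)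
      · right; right; rw [hprod, hfix 2 (by omega) (by omega), hfix 4 (by omega) (by omega)]
  obtain ⟨p0, hp0, hap⟩ : ∃ p0 ∈ win x 0 6, a = p0 * x 4 * p0⁻¹ := by
    simp only [Set.mem_insert_iff, Set.mem_singleton_iff] at haO
    rcases haO with h1 | h1 | h1
    · exfalso
      have h2 : h * x 2 * h⁻¹ = x 2 := by
        nth_rewrite 1 [← h1]
        rw [ha]; group
      rw [h24] at h2
      exact W.notMem_right (a := 2) (b := 4) (by norm_num) (by norm_num)
        (h2 ▸ mem_win x (le_refl 2) (by norm_num))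
    · exact ⟨1, one_mem _, by rw [h1]; group⟩
    · exact ⟨x 0, hm 0 le_rfl (by norm_num), by rw [h1, W.inv_eq ht, h04]⟩
  have hx1 : y * x 1 * y⁻¹ = a := by rw [hback, ha]; norm_num
  obtain ⟨q, hq, hq5⟩ : ∃ q ∈ win x 0 7, q * x 1 * q⁻¹ = x 5 := by
    refine ⟨h * (y * p0 * y⁻¹)⁻¹ * p, mul_mem (mul_mem hh (inv_mem
      (win_mono x le_rfl (by norm_num) (hyP p0 hp0)))) (win_mono x le_rfl (by norm_num) hp), ?_⟩
    have h5 : x 5 = h * (y * x 4 * y⁻¹) * h⁻¹ := by rw [hback]; norm_num; group
    have h7 : p * x 1 * p⁻¹ = (y * p0 * y⁻¹) * (y * x 4 * y⁻¹) * (y * p0 * y⁻¹)⁻¹ := by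
      rw [← hsq _ (hm 1 (by norm_num) (by norm_num)), hx1, hap]; group
    calc _ = h * ((y * p0 * y⁻¹)⁻¹ * (p * x 1 * p⁻¹) * (y * p0 * y⁻¹)) * h⁻¹ := by group
      _ = x 5 := by rw [h7, h5]; group
  -- `win x 1 5` is invariant
  have hinv : ∀ s ∈ (win x 1 5 : Set G), q * s * q⁻¹ ∈ (win x 1 5 : Set G) := by
    refine conj_mem_of_win (W.inv_eq ht) (fun i hi0 hi7 s hs => ?_) hq
    rcases (show i < 5 ∨ i = 5 ∨ i = 6 by omega) with hi | rfl | rfl
    · exact (Subgroup.mem_normalizer_iff.1 (W.le_normalizer (a := 0) (b := 5) (c := 1) (d := 5)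
        (by norm_num) (by norm_num) le_rfl (by norm_num) (by norm_num) (mem_win x hi0 hi)) s).1 hs
    · exact (Subgroup.mem_normalizer_iff.1 (W.le_normalizer (a := 1) (b := 6) (c := 1) (d := 5)
        (by norm_num) le_rfl (by norm_num) (by norm_num) (by norm_num)
        (mem_win x (by norm_num) (by norm_num))) s).1 hs
    · -- conjugation by `x 6`
      have hle : win x 1 5 ≤ (win x 1 5).comap (MulAut.conj (x 6)).toMonoidHom := by
        refine win_le x fun j hj1 hj5 => ?_
        show x 6 * x j * (x 6)⁻¹ ∈ win x 1 5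
        rcases (show j = 1 ∨ j = 2 ∨ 3 ≤ j by omega) with rfl | rfl | hj
        · set z := x 6 * x 1 * (x 6)⁻¹ with hz
          have hz16 : z ∈ win x 1 6 := by
            have hcm := W.commutator_mem_win_succ (a := 1) (b := 6) (by norm_num) (by norm_num)
            have : z = x 1 * (x 1 * x 6 * (x 1)⁻¹ * (x 6)⁻¹) := by
              rw [hz]
              simp only [W.inv_eq ht]
              calc x 6 * x 1 * x 6 = (x 1 * x 1) * x 6 * x 1 * x 6 := by rw [W.mul_self ht, one_mul]
                _ = _ := by group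
            rw [this]
            exact mul_mem (mem_win x le_rfl (by norm_num)) (win_mono x (by norm_num) le_rfl hcm)
          obtain ⟨u, hu, e, hue⟩ := W.split_right (a := 1) (b := 5) (by norm_num) (by norm_num)
            (z := z) (by norm_num; exact hz16)
          rcases W.zpow_cases ht 5 e with he | he
          · rw [hue, he, mul_one]; exact hu
          obtain ⟨f, v, hv, rfl⟩ := W.split_left (a := 1) (b := 5) (by norm_num) (by norm_num) hu
          norm_num at hv
          rw [he] at hue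
          rcases W.zpow_cases ht 1 f with hf | hf
          · exfalso
            rw [hf, one_mul] at hue
            have hz26 : z ∈ win x 2 6 :=
              hue ▸ mul_mem (win_mono x le_rfl (by norm_num) hv) (mem_win x (by norm_num) (by norm_num))
            refine W.notMem_left (a := 1) (b := 6) (by norm_num) (by norm_num) ?_
            norm_num
            refine (Subgroup.mem_normalizer_iff.1 (W.le_normalizer (a := 2) (b := 7) (c := 2) (d := 6)
              (by norm_num) le_rfl (by norm_num) (by norm_num) (by norm_num)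
              (mem_win x (show (2 : ℤ) ≤ 6 by norm_num) (by norm_num))) _).2 hz26
          · exfalso
            rw [hf] at hue
            have hv1 : Commute v (x 1) := (commute_win x (fun i h1 h2 =>
              hcd 1 i (by omega) (by omega)) hv).symm
            have hv5 : Commute v (x 5) := (commute_win x (fun i h1 h2 =>
              hcd 5 i (by omega) (by omega)) hv).symm
            have hvv : v * v = 1 := W.sq_win ht (fun i j h1 h2 h3 h4 => hcd i j (by omega) (by omega)) hv
            have hzz : z * z = 1 := by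
              calc z * z = x 6 * (x 1 * x 1) * (x 6)⁻¹ := by rw [hz]; group
                _ = 1 := by rw [W.mul_self ht]; group
            have h15 := hcomm 1
            norm_num at h15
            refine W.ne_one ht 3 ?_
            rw [← h15, ← hzz, hue]
            calc x 1 * x 5 * x 1 * x 5 = x 1 * x 5 * (v * v) * x 1 * x 5 := by rw [hvv, mul_one]
              _ = x 1 * (x 5 * v) * (v * x 1) * x 5 := by group
              _ = x 1 * (v * x 5) * (x 1 * v) * x 5 := by rw [hv5.eq, hv1.eq]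
              _ = _ := by group
        · rw [W.inv_eq ht, h6]
          exact mul_mem (mem_win x (by norm_num) (by norm_num)) (mem_win x (by norm_num) (by norm_num))
        · rw [(hcd 6 j (by omega) (by omega)).eq, mul_inv_cancel_right]
          exact mem_win x hj1 hj5
      exact hle hs
  have := hinv _ (mem_win x le_rfl (by norm_num : (1 : ℤ) < 5))
  rw [hq5] at this
  exact W.notMem_right (a := 1) (b := 5) (by norm_num) (by norm_num) this

end Cfsg.Agent.FGS79
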