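import Mathlib
import Cfsg.Agent.FGS79.DihedralWindows
import Cfsg.Agent.FGS79.DihedralSetup

set_option autoImplicit false

/-! The structure of `H / O(H)` from an invariant triple of involutions. -/

namespace Cfsg.Agent.FGS79

variable {G : Type*} [Group G] [Finite G]

theorem perm_three_fixed : ∀ s : Equiv.Perm (Fin 3), s ^ 3 = 1 → s ≠ 1 → ∀ i, s i ≠ i := by decide

theorem perm_three_eq_one : ∀ s : Equiv.Perm (Fin 3), (∀ i, s i = i) → s = 1 := by decide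

/-- An invariant triple generating `Q`. -/
theorem triple_structure (H P Q : Subgroup G) (hQP : Q ≤ P) (hPH : P ≤ H)
    (hP : ¬ 2 ∣ P.relIndex H) (hQn : ∀ g ∈ H, ∀ q ∈ Q, g * q * g⁻¹ ∈ Q)
    (hQ : IsPGroup 2 Q) (hcard : Nat.card P = 2 * Nat.card Q)
    (e : Fin 3 → G) (he : Function.Injective e) (heQ : ∀ i, e i ∈ Q)
    (hgen : Q ≤ Subgroup.closure (Set.range e)) (hab : ∀ i j, Commute (e i) (e j))
    (hinv : ∀ g ∈ H, ∀ s ∈ Set.range e, g * s * g⁻¹ ∈ Set.range e)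
    {u v : G} (hu : u ∈ H) (hu0 : u * e 0 * u⁻¹ = e 0) (hu1 : u * e 1 * u⁻¹ = e 2)
    (hv : v ∈ H) (hv1 : v * e 1 * v⁻¹ = e 1) (hv0 : v * e 0 * v⁻¹ = e 2) :
    ∃ φ : ↥H →* Equiv.Perm (Fin 3), Function.Surjective φ ∧
      (∀ (g : ↥H) i, (g : G) * e i * (g : G)⁻¹ = e (φ g i)) ∧
      (∀ c ∈ φ.ker, ∃ (q : ↥H) (m : ↥H), (q : G) ∈ Q ∧ m ∈ Cfsg.oddCore ↥H ∧ c = q * m) ∧
      Cfsg.oddCore ↥H ≤ φ.ker ∧ (Cfsg.oddCore ↥H).index = 6 * Nat.card Q := by
  classical
  have hQH : Q ≤ H := hQP.trans hPH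
  set e' : Fin 3 → ↥H := fun i => ⟨e i, hQH (heQ i)⟩ with he'
  obtain ⟨φ, hφ⟩ := orbit_hom e' (fun i j h => he (congrArg Subtype.val h)) fun g i => by
    obtain ⟨j, hj⟩ := hinv g g.2 (e i) ⟨i, rfl⟩
    exact ⟨j, Subtype.ext hj.symm⟩
  have hφG : ∀ (g : ↥H) i, (g : G) * e i * (g : G)⁻¹ = e (φ g i) := fun g i =>
    congrArg Subtype.val (hφ g i)
  have hfix : ∀ (g : ↥H) i j, (g : G) * e i * (g : G)⁻¹ = e j → φ g i = j := fun g i j h =>
    he ((hφG g i).symm.trans h)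
  have hsurj : Function.Surjective φ := orbit_hom_surjective φ (hfix ⟨u, hu⟩ 0 0 hu0)
    (hfix ⟨u, hu⟩ 1 2 hu1) (hfix ⟨v, hv⟩ 1 1 hv1) (hfix ⟨v, hv⟩ 0 2 hv0)
  have hn : (Q.subgroupOf H).Normal := ⟨fun q hq g => hQn g g.2 q hq⟩
  have hcomm : ∀ a ∈ Q, ∀ b ∈ Q, Commute a b := by
    intro a ha b hb
    have hb' : ∀ i, Commute (e i) b := fun i => (Subgroup.mem_centralizer_singleton_iff.1
      ((Subgroup.closure_le (K := Subgroup.centralizer ({e i} : Set G))).2 (by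
        rintro _ ⟨j, rfl⟩
        exact Subgroup.mem_centralizer_singleton_iff.2 (hab j i).eq) (hgen hb))).symm
    exact Subgroup.mem_centralizer_singleton_iff.1
      ((Subgroup.closure_le (K := Subgroup.centralizer ({b} : Set G))).2 (by
        rintro _ ⟨i, rfl⟩
        exact Subgroup.mem_centralizer_singleton_iff.2 (hb' i).eq) (hgen ha))
  have hker : ∀ g : ↥H, g ∈ φ.ker ↔ ∀ q ∈ Q.subgroupOf H, Commute g q := by
    intro g
    constructor
    · intro hg q hq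
      have hcl : Subgroup.closure (Set.range e) ≤ Subgroup.centralizer {(g : G)} := by
        rw [Subgroup.closure_le]
        rintro _ ⟨i, rfl⟩
        refine Subgroup.mem_centralizer_singleton_iff.2 ?_
        have h1 := hφG g i
        rw [MonoidHom.mem_ker] at hg
        rw [hg, Equiv.Perm.one_apply, mul_inv_eq_iff_eq_mul] at h1
        exact h1.symm
      exact Subtype.ext (Subgroup.mem_centralizer_singleton_iff.1 (hcl (hgen hq))).symm
    · intro h
      refine perm_three_eq_one _ fun i => hfix g i i ?_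
      have := congrArg Subtype.val (h (e' i) (heQ i)).eq
      rw [mul_inv_eq_iff_eq_mul]
      exact this
  have hidx : φ.ker.index = 6 := by
    rw [Subgroup.index_ker, MonoidHom.range_eq_top.2 hsurj, Subgroup.card_top, Nat.card_perm]
    simp [Nat.factorial]
  have hQcard := Nat.card_congr (Subgroup.subgroupOfEquivOfLe hQH).toEquiv
  obtain ⟨hdec, hle, hcore⟩ := centralizer_decomp (X := ↥H) (P := P.subgroupOf H)
    (Q := Q.subgroupOf H) (hQ.comap_of_injective H.subtype H.subtype_injective)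
    (fun a ha b hb => Subtype.ext (hcomm _ ha _ hb))
    (by rw [Nat.card_congr (Subgroup.subgroupOfEquivOfLe hPH).toEquiv, hQcard, hcard])
    hP φ.ker hker hidx
  refine ⟨φ, hsurj, hφG, fun c hc => ?_, hle, by rw [hcore, hQcard]⟩
  obtain ⟨q, hq, m, hm, h⟩ := hdec c hc
  exact ⟨q, m, hq, hm, h⟩

theorem coprime_inf {H Q : Subgroup G} (hQ : IsPGroup 2 Q) {q : ↥H} (h1 : (q : G) ∈ Q)
    (h2 : q ∈ Cfsg.oddCore ↥H) : q = 1 := by
  obtain ⟨k, hk⟩ := hQ ⟨q, h1⟩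
  have h3 : orderOf q ∣ 2 ^ k := orderOf_dvd_of_pow_eq_one (Subtype.ext (congrArg Subtype.val hk :))
  exact orderOf_eq_one_iff.1 (Nat.eq_one_of_dvd_coprimes
    (((Nat.coprime_comm).1 (Cores.orderOf_coprime_of_mem_pPrimeCore h2)).pow_left k) h3 dvd_rfl)

/-- `H / O(H) ≅ S₄`. -/
theorem symFour_of_triple (H P Q : Subgroup G) (hQP : Q ≤ P) (hPH : P ≤ H)
    (hP : ¬ 2 ∣ P.relIndex H) (hQn : ∀ g ∈ H, ∀ q ∈ Q, g * q * g⁻¹ ∈ Q)
    (hQ : IsPGroup 2 Q) (hcard : Nat.card P = 2 * Nat.card Q) (hQ4 : Nat.card Q = 4)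
    (e : Fin 3 → G) (he : Function.Injective e) (heQ : ∀ i, e i ∈ Q)
    (hgen : Q ≤ Subgroup.closure (Set.range e)) (hab : ∀ i j, Commute (e i) (e j))
    (hall : ∀ q ∈ Q, q = 1 ∨ q ∈ Set.range e)
    (hinv : ∀ g ∈ H, ∀ s ∈ Set.range e, g * s * g⁻¹ ∈ Set.range e)
    {u v : G} (hu : u ∈ H) (hu0 : u * e 0 * u⁻¹ = e 0) (hu1 : u * e 1 * u⁻¹ = e 2)
    (hv : v ∈ H) (hv1 : v * e 1 * v⁻¹ = e 1) (hv0 : v * e 0 * v⁻¹ = e 2) :
    Nonempty (↥H ⧸ Cfsg.oddCore ↥H ≃* Equiv.Perm (Fin 4)) := by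
  obtain ⟨φ, hsurj, hφ, hdec, hle, hidx⟩ := triple_structure H P Q hQP hPH hP hQn hQ hcard e he heQ
    hgen hab hinv hu hu0 hu1 hv hv1 hv0
  refine equiv_symFour φ hsurj (Cfsg.oddCore ↥H) hle (by rw [hidx, hQ4]) fun c hc g hg3 hg1 hcg => ?_
  obtain ⟨q, m, hq, hm, rfl⟩ := hdec c hc
  have hq' : g * q * g⁻¹ * q⁻¹ ∈ Cfsg.oddCore ↥H := by
    rw [← QuotientGroup.eq_one_iff] at hcg ⊢
    simpa [(QuotientGroup.eq_one_iff m).2 hm] using hcg
  have hgq := coprime_inf hQ (mul_mem (hQn g g.2 q hq) (inv_mem hq) :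
    ((g * q * g⁻¹ * q⁻¹ : ↥H) : G) ∈ Q) hq'
  rcases hall q hq with h | ⟨i, hi⟩
  · rw [show q = 1 from Subtype.ext h, one_mul]; exact hm
  · refine absurd ?_ (perm_three_fixed (φ g) hg3 hg1 i)
    apply he
    rw [← hφ g i, hi]
    exact congrArg Subtype.val (mul_inv_eq_one.1 hgq)

/-- `H / O(H) ≅ S₄ × C₂`. -/
theorem symFourTwo_of_triple (H P Q : Subgroup G) (hQP : Q ≤ P) (hPH : P ≤ H)
    (hP : ¬ 2 ∣ P.relIndex H) (hPp : IsPGroup 2 P) (hQn : ∀ g ∈ H, ∀ q ∈ Q, g * q * g⁻¹ ∈ Q)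
    (hQ : IsPGroup 2 Q) (hcard : Nat.card P = 2 * Nat.card Q) (hQ8 : Nat.card Q = 8)
    (e : Fin 3 → G) (he : Function.Injective e) (heQ : ∀ i, e i ∈ Q)
    (hgen : Q ≤ Subgroup.closure (Set.range e)) (hab : ∀ i j, Commute (e i) (e j))
    {z : G} (hzQ : z ∈ Q) (hz2 : z * z = 1) (hzc : ∀ g ∈ H, Commute g z)
    (hall : ∀ q ∈ Q, q = 1 ∨ q = z ∨ ∃ i, q = e i ∨ q = e i * z)
    (hne : ∀ i j, i ≠ j → e i ≠ e j * z)
    {U : Subgroup G} (hUP : U ≤ P) (hzU : z ∉ U) (hU : ∀ b ∈ P, b ∈ U ∨ b * z ∈ U)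
    (hinv : ∀ g ∈ H, ∀ s ∈ Set.range e, g * s * g⁻¹ ∈ Set.range e)
    {u v : G} (hu : u ∈ H) (hu0 : u * e 0 * u⁻¹ = e 0) (hu1 : u * e 1 * u⁻¹ = e 2)
    (hv : v ∈ H) (hv1 : v * e 1 * v⁻¹ = e 1) (hv0 : v * e 0 * v⁻¹ = e 2) :
    Nonempty (↥H ⧸ Cfsg.oddCore ↥H ≃* Equiv.Perm (Fin 4) × Multiplicative (ZMod 2)) := by
  have : Fact (Nat.Prime 2) := ⟨Nat.prime_two⟩
  obtain ⟨φ, hsurj, hφ, hdec, hle, hidx⟩ := triple_structure H P Q hQP hPH hP hQn hQ hcard e he heQ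
    hgen hab hinv hu hu0 hu1 hv hv1 hv0
  have hzH : z ∈ H := hQP.trans hPH hzQ
  set zH : ↥H := ⟨z, hzH⟩ with hzHdef
  have hz1 : z ≠ 1 := fun h => hzU (h ▸ one_mem U)
  have hzord : orderOf zH = 2 := orderOf_eq_prime (Subtype.ext (by simp [pow_two, zH, hz2]))
    fun h => hz1 (congrArg Subtype.val h)
  have hcz : ∀ g : ↥H, Commute g zH := fun g => Subtype.ext (hzc g g.2)
  have hZn : (Subgroup.zpowers zH).Normal := by
    refine ⟨fun a ha g => ?_⟩
    obtain ⟨l, rfl⟩ := ha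
    rw [((hcz g).zpow_right l).eq, mul_inv_cancel_right]
    exact ⟨l, rfl⟩
  set O := Cfsg.oddCore ↥H with hO
  set N := O ⊔ Subgroup.zpowers zH with hN
  have hNle : N ≤ φ.ker := by
    refine sup_le hle (Subgroup.zpowers_le.2 (perm_three_eq_one _ fun i => ?_))
    refine he ?_
    rw [← hφ, ← (hzc _ (hQP.trans hPH (heQ i))).eq, mul_inv_cancel_right]
  have hdisj : O ⊓ Subgroup.zpowers zH = ⊥ := by
    refine (Subgroup.disjoint_of_coprime_natCard ?_).eq_bot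
    rw [Nat.card_zpowers, hzord]
    exact Cores.pPrimeCore_coprime
  have hNidx : N.index = 24 := by
    have h1 := Subgroup.relIndex_mul_index (show O ≤ N from le_sup_left)
    have h2 : O.relIndex N = 2 := by
      rw [hN, sup_comm, Subgroup.relIndex_sup_right, ← Subgroup.inf_relIndex_right, hdisj,
        Subgroup.relIndex_bot_left, Nat.card_zpowers, hzord]
    rw [h2, hidx, hQ8] at h1
    omega
  obtain ⟨ρ⟩ := equiv_symFour φ hsurj N hNle hNidx fun c hc g hg3 hg1 hcg => by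
    obtain ⟨q, m, hq, hm, rfl⟩ := hdec c hc
    have hmN : m ∈ N := Subgroup.mem_sup_left hm
    have hq' : g * q * g⁻¹ * q⁻¹ ∈ N := by
      rw [← QuotientGroup.eq_one_iff] at hcg ⊢
      simpa [(QuotientGroup.eq_one_iff m).2 hmN] using hcg
    obtain ⟨a, ha, b, hb, hab'⟩ := Subgroup.mem_sup_of_normal_left.1 hq'
    obtain ⟨l, rfl⟩ := Subgroup.mem_zpowers_iff.1 hb
    have hgqQ : ((g * q * g⁻¹ * q⁻¹ : ↥H) : G) ∈ Q := mul_mem (hQn g g.2 q hq) (inv_mem hq)
    have ha1 : a = 1 := by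
      refine coprime_inf hQ ?_ ha
      have h3 : a = g * q * g⁻¹ * q⁻¹ * (zH ^ l)⁻¹ := eq_mul_inv_of_mul_eq hab'
      rw [h3]
      exact mul_mem hgqQ (inv_mem (by rw [Subgroup.coe_zpow]; exact zpow_mem hzQ l))
    rw [ha1, one_mul] at hab'
    have hzl : zH ^ l = 1 ∨ zH ^ l = zH := by
      rcases Int.even_or_odd l with ⟨k, rfl⟩ | ⟨k, rfl⟩
      · left
        rw [← two_mul, zpow_mul, zpow_two, ← pow_two, ← hzord, pow_orderOf_eq_one, one_zpow]
      · right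
        rw [zpow_add, zpow_one, zpow_mul, zpow_two, ← pow_two, ← hzord, pow_orderOf_eq_one,
          one_zpow, one_mul]
    have hgq : (g : G) * q * (g : G)⁻¹ = q ∨ (g : G) * q * (g : G)⁻¹ = z * q := by
      rcases hzl with h | h <;> rw [h] at hab' <;>
        [left; right]
      · exact congrArg Subtype.val (mul_inv_eq_one.1 hab'.symm)
      · exact congrArg Subtype.val (mul_inv_eq_iff_eq_mul.1 hab'.symm)
    rcases hall q hq with h | h | ⟨i, hi⟩
    · rw [show q = 1 from Subtype.ext h, one_mul]; exact hmN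
    · rw [show q = zH from Subtype.ext h]
      exact mul_mem (Subgroup.mem_sup_right (Subgroup.mem_zpowers _)) hmN
    · exfalso
      set j := φ g i
      have hij : j ≠ i := perm_three_fixed (φ g) hg3 hg1 i
      have hei : (g : G) * e i * (g : G)⁻¹ = e j := hφ g i
      rcases hi with hi | hi <;> rw [hi] at hgq
      · rw [hei, (hzc (e i) (hQP.trans hPH (heQ i))).symm.eq] at hgq
        rcases hgq with h | h
        · exact hij (he h)
        · exact hne j i hij h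
      · have h5 : (g : G) * (e i * z) * (g : G)⁻¹ = e j * z := by
          rw [← hei, ← mul_assoc, mul_assoc (_ * _) z, ← ((hzc _ g.2).inv_left).eq, ← mul_assoc]
        rw [h5] at hgq
        rcases hgq with h | h
        · exact hij (he (mul_right_cancel h))
        · rw [← mul_assoc, ← (hzc (e i) (hQP.trans hPH (heQ i))).eq] at h
          exact hne j i hij (mul_right_cancel h)
  -- the linear character
  set P' := P.subgroupOf H with hP'
  have hP'fin : P'.FiniteIndex := inferInstance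
  set U' := (U.subgroupOf H).subgroupOf P' with hU'
  have hU2 : U'.index = 2 := by
    refine Subgroup.index_eq_two_iff.2 ⟨⟨zH, hQP hzQ⟩, fun b => ?_⟩
    by_cases hb : ((b : ↥H) : G) ∈ U
    · right
      refine ⟨hb, fun h => hzU ?_⟩
      have : ((b : ↥H) : G)⁻¹ * (((b : ↥H) : G) * z) ∈ U := mul_mem (inv_mem hb) h
      simpa using this
    · left
      exact ⟨(hU _ b.2).resolve_left hb, hb⟩
  have hU'n : U'.Normal := Subgroup.normal_of_index_eq_two hU2
  have hC2 : Nat.card (Multiplicative (ZMod 2)) = 2 := by simp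
  set ε : ↥P' →* Multiplicative (ZMod 2) :=
    (mulEquivOfPrimeCardEq (p := 2) (show Nat.card (↥P' ⧸ U') = 2 from hU2) hC2).toMonoidHom.comp
      (QuotientGroup.mk' U') with hε
  have hεz : ∀ w : ↥P', ((w : ↥H) : G) = z → ε w ≠ 1 := by
    intro w hw h
    rw [hε, MonoidHom.comp_apply, MulEquiv.coe_toMonoidHom, MulEquiv.map_eq_one_iff,
      QuotientGroup.mk'_apply, QuotientGroup.eq_one_iff] at h
    have h' : ((w : ↥H) : G) ∈ U := h
    rw [hw] at h'
    exact hzU h'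
  set ψ := MonoidHom.transfer ε with hψ
  have hψz : ψ zH ≠ 1 := by
    rw [hψ, MonoidHom.transfer_eq_pow ε zH (fun k g₀ _ => by
      rw [mul_assoc, ← ((hcz g₀).pow_right k).eq, inv_mul_cancel_left])]
    refine hεz _ ?_
    have hodd : Odd P'.index := Nat.odd_iff.2 (Nat.two_dvd_ne_zero.1 hP)
    obtain ⟨k, hk⟩ := hodd
    show ((zH ^ P'.index : ↥H) : G) = z
    rw [hk, Subgroup.coe_pow, pow_succ, pow_mul, pow_two, hz2, one_pow, one_mul]
  have hψO : ∀ m ∈ O, ψ m = 1 := by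
    intro m hm
    rw [← orderOf_eq_one_iff]
    refine Nat.eq_one_of_dvd_coprimes (Cores.orderOf_coprime_of_mem_pPrimeCore hm)
      (orderOf_map_dvd ψ m) ?_
    have h := orderOf_dvd_natCard (ψ m)
    rwa [hC2] at h
  set Θ : ↥H →* Equiv.Perm (Fin 4) × Multiplicative (ZMod 2) :=
    (ρ.toMonoidHom.comp (QuotientGroup.mk' N)).prod ψ with hΘ
  have hker : Θ.ker = O := by
    refine le_antisymm (fun w hw => ?_) (fun m hm => ?_)
    · rw [MonoidHom.mem_ker, hΘ, MonoidHom.prod_apply, Prod.mk_eq_one] at hw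
      obtain ⟨h1, h2⟩ := hw
      rw [MonoidHom.comp_apply, MulEquiv.coe_toMonoidHom, MulEquiv.map_eq_one_iff,
        QuotientGroup.mk'_apply, QuotientGroup.eq_one_iff] at h1
      obtain ⟨a, ha, b, hb, rfl⟩ := Subgroup.mem_sup_of_normal_left.1 h1
      obtain ⟨l, rfl⟩ := Subgroup.mem_zpowers_iff.1 hb
      rw [map_mul, hψO a ha, one_mul, map_zpow] at h2
      have h3 : zH ^ l = 1 := by
        have hl : (orderOf (ψ zH) : ℤ) ∣ l := orderOf_dvd_iff_zpow_eq_one.2 h2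
        have h4 : orderOf (ψ zH) = 2 := orderOf_eq_prime (by
          rw [← map_pow, show zH ^ 2 = 1 from Subtype.ext (by simp [pow_two, zH, hz2]), map_one]) hψz
        rw [h4, ← hzord] at hl
        exact orderOf_dvd_iff_zpow_eq_one.1 hl
      rw [h3, mul_one]; exact ha
    · rw [MonoidHom.mem_ker, hΘ, MonoidHom.prod_apply, hψO m hm, MonoidHom.comp_apply,
        QuotientGroup.mk'_apply, (QuotientGroup.eq_one_iff m).2 (Subgroup.mem_sup_left hm), map_one]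
      rfl
  have hsurjΘ : Function.Surjective Θ := by
    rw [← MonoidHom.range_eq_top]
    refine Subgroup.eq_top_of_card_eq _ ?_
    rw [← Subgroup.index_ker, hker, hidx, hQ8, Nat.card_prod, Nat.card_perm, hC2]
    simp [Nat.factorial]
  exact ⟨(QuotientGroup.quotientMulEquivOfEq hker.symm).trans
    (QuotientGroup.quotientKerEquivOfSurjective Θ hsurjΘ)⟩

end Cfsg.Agent.FGS79
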